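import Cfsg.Agent.Lib.InvChar.AltLift.Squares

/-!
# Classes of involutions of the cover
-/

set_option autoImplicit false

namespace CfsgLib.InvChar.AltLift

open Equiv Equiv.Perm

variable {n : ℕ}

/-- An involution moving `2 j` points has `j` cycles. -/
theorem cycleType_invol {p : Perm (Fin n)} (h2 : p * p = 1) :
    p.cycleType = Multiset.replicate p.cycleType.card 2 ∧ p.support.card = 2 * p.cycleType.card := by
  have e : p.cycleType = Multiset.replicate p.cycleType.card 2 := by
    by_cases h1 : p = 1
    · simp [h1]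
    · haveI : Fact (Nat.Prime 2) := ⟨Nat.prime_two⟩
      have ho : orderOf p = 2 := orderOf_eq_prime (by rw [pow_two, h2]) h1
      obtain ⟨k, hk⟩ := Perm.cycleType_prime_order (ho.symm ▸ Nat.prime_two)
      rw [ho] at hk
      rw [hk, Multiset.card_replicate]
  refine ⟨e, ?_⟩
  rw [← sum_cycleType, e, Multiset.sum_replicate, Multiset.card_replicate, smul_eq_mul, mul_comm]

/-- An even involution moves a multiple of four points. -/
theorem support_four {p : Perm (Fin n)} (hp : p ∈ alternatingGroup (Fin n)) (h2 : p * p = 1) :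
    ∃ k, p.support.card = 4 * k := by
  obtain ⟨e, hc⟩ := cycleType_invol h2
  have hs := Perm.mem_alternatingGroup.1 hp
  rw [Perm.sign_of_cycleType, e, Multiset.sum_replicate, Multiset.card_replicate] at hs
  rcases Nat.even_or_odd p.cycleType.card with ⟨k, hk⟩ | ⟨k, hk⟩
  · exact ⟨k, by omega⟩
  · rw [hk, Odd.neg_one_pow ⟨3 * k + 1, by simp only [smul_eq_mul]; omega⟩] at hs
    exact absurd hs (by decide)

/-- The same number of moved points gives conjugacy by even permutations. -/
theorem conj_of_support {p q : Perm (Fin n)} (hp : p * p = 1) (hq : q * q = 1)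
    (h : p.support.card = q.support.card) (hpos : 0 < q.support.card) :
    ∃ g ∈ alternatingGroup (Fin n), g * p * g⁻¹ = q := by
  obtain ⟨ep, cp⟩ := cycleType_invol hp
  obtain ⟨eq', cq⟩ := cycleType_invol hq
  obtain ⟨a, ha⟩ := Finset.card_pos.1 hpos
  rw [mem_support] at ha
  have hqq : q (q a) = a := by rw [← Perm.mul_apply, hq, Perm.one_apply]
  refine exists_even_conj (τ := swap a (q a)) (sign_swap (Ne.symm ha)) ?_ ?_
  · have := swap_apply_apply q a (q a)
    rw [hqq, swap_comm] at this
    exact eq_mul_inv_iff_mul_eq.1 this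
  · rw [ep, eq', show p.cycleType.card = q.cycleType.card by omega]

namespace Cov

variable {H : Type*} [Group H] [Finite H] (C : Cov n H)

/-- A lift of an involution moving `8 k` points is conjugate to its product with the central involution. -/
theorem conj_th {x : H} {k : ℕ} (hk : 0 < k) (hke : Even k) (h2 : C.π x * C.π x = 1)
    (hs : (C.π x).support.card = 4 * k) : ∃ w, w * x * w⁻¹ = x * C.th := by
  set p := C.π x with hp
  obtain ⟨a, ha⟩ := Finset.card_pos.1 (by omega : 0 < p.support.card)
  obtain ⟨c, hc⟩ := Finset.card_pos.1 (by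
    have := Finset.le_card_sdiff {a, p a} p.support
    have := Finset.card_le_two (a := a) (b := p a)
    omega : 0 < (p.support \ {a, p a}).card)
  simp only [Finset.mem_sdiff, Finset.mem_insert, Finset.mem_singleton, not_or] at hc
  obtain ⟨hn, hdis, hcard⟩ := support_mul_pairs h2 ha hc.1 hc.2.1 hc.2.2
  generalize p a = b at hn hdis hcard
  generalize p c = d at hn hdis hcard
  set q := swap a b * swap c d with hq
  have hqD : DT q := ⟨_, _, _, _, hn, rfl⟩
  have hn' := hn
  simp only [List.nodup_cons, List.mem_cons, List.not_mem_nil, or_false, not_or] at hn'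
  obtain ⟨⟨n1, n2, n3⟩, ⟨n4, n5⟩, n6, -⟩ := hn'
  have hv : [a, c, b, d].Nodup := by simp [List.nodup_cons, *, Ne.symm]
  have hr : [a, d, b, c].Nodup := by simp [List.nodup_cons, *, Ne.symm]
  set v := swap a c * swap b d with hvdef
  have e1 : v * q = swap a d * swap b c ∧ q * v = swap a d * swap b c := by
    constructor <;> refine Equiv.ext fun w => ?_ <;>
      rcases eq_or_ne w a with rfl | g1 <;> rcases eq_or_ne w b with rfl | g2 <;>
      rcases eq_or_ne w c with rfl | g3 <;> rcases eq_or_ne w d with rfl | g4 <;>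
      simp_all [swap_apply_of_ne_of_ne, Ne.symm]
  have hfix : ∀ s : Perm (Fin n), (∀ w, w ≠ a → w ≠ b → w ≠ c → w ≠ d → s w = w) →
      Perm.Disjoint s (q * p) := by
    intro s hs w
    refine or_iff_not_imp_right.2 fun hw => ?_
    have hqw := (hdis w).resolve_right hw
    refine hs w ?_ ?_ ?_ ?_ <;> rintro rfl <;>
      simp [hq, swap_apply_of_ne_of_ne, *, Ne.symm] at hqw
  have dv := hfix v fun w g1 g2 g3 g4 => by simp [hvdef, swap_apply_of_ne_of_ne, *]
  have dr := hfix (swap a d * swap b c) fun w g1 g2 g3 g4 => by simp [swap_apply_of_ne_of_ne, *]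
  have hpq : q * (q * p) = p := by rw [← mul_assoc, hqD.sq, one_mul]
  obtain ⟨w, hw⟩ := C.exists_lift (DT.mem ⟨_, _, _, _, hv, rfl⟩ : v ∈ alternatingGroup (Fin n))
  have hvp : v * p = p * v := by
    calc v * p = v * q * (q * p) := by rw [mul_assoc v q (q * p), hpq]
      _ = q * v * (q * p) := by rw [e1.1, e1.2]
      _ = q * ((q * p) * v) := by rw [mul_assoc q v, dv.commute.eq]
      _ = _ := by rw [← mul_assoc q, hpq]
  have hsup : (v * p).support.card = 4 * k := by
    rw [show v * p = swap a d * swap b c * (q * p) by rw [← e1.1, mul_assoc v q (q * p), hpq],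
      dr.card_support_mul]
    have h4 : (swap a d * swap b c).support.card = 4 := by
      rw [← sum_cycleType, cycleType_swap_mul_swap_of_nodup hr]; rfl
    omega
  have hv2 : v * v = 1 := DT.sq ⟨_, _, _, _, hv, rfl⟩
  refine ⟨w, ?_⟩
  have hwx2 : C.π (w * x) * C.π (w * x) = 1 := by
    rw [map_mul, hw, ← hp]
    calc v * p * (v * p) = v * p * (p * v) := by rw [← hvp]
      _ = _ := by rw [mul_assoc, ← mul_assoc p p v, h2, one_mul, hv2]
  have := C.mul_eq (x := w) (y := x) (by rw [hw]; exact hv2) h2 (by rw [hw]; exact hvp)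
  rw [C.sq_support k hwx2 (by rw [map_mul, hw]; exact hsup),
    C.sq_DT (h := w) (by rw [hw]; exact ⟨_, _, _, _, hv, rfl⟩), C.sq_support k h2 hs] at this
  obtain ⟨j, rfl⟩ := hke
  have e : C.th ^ (j + j) = 1 := by rw [← two_mul, pow_mul, pow_two, C.th_sq, one_pow]
  simp only [e, one_mul, mul_one] at this
  rw [this, mul_assoc, mul_assoc, ← C.th_comm, ← mul_assoc w, mul_inv_cancel, one_mul]

/-- Involutions over permutations moving the same number of points are conjugate. -/
theorem isConj_invol {x y : H} {k : ℕ} (hk : 0 < k) (hke : Even k) (hx : C.π x * C.π x = 1)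
    (hy : C.π y * C.π y = 1) (hxs : (C.π x).support.card = 4 * k)
    (hys : (C.π y).support.card = 4 * k) : IsConj x y := by
  obtain ⟨g, hg, e⟩ := conj_of_support hx hy (hxs.trans hys.symm) (by omega)
  obtain ⟨u, rfl⟩ := C.exists_lift hg
  rcases C.two_lifts (h := u * x * u⁻¹) (k := y) (by rw [map_mul, map_mul, map_inv, e]) with rfl | rfl
  · exact isConj_iff.2 ⟨u, rfl⟩
  · obtain ⟨w, hw⟩ := C.conj_th hk hke hx hxs
    refine isConj_iff.2 ⟨u * w, ?_⟩
    rw [show u * w * x * (u * w)⁻¹ = u * (w * x * w⁻¹) * u⁻¹ by group, hw]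
    simp only [mul_assoc]
    rw [← C.th_comm u⁻¹]

/-- Up to degree 15 a non-central involution lies over a product of four transpositions. -/
theorem invol_eight (hn : n ≤ 15) {x : H} (hx : x * x = 1) (h1 : x ≠ 1) (h2 : x ≠ C.th) :
    (C.π x).support.card = 8 := by
  have hp : C.π x * C.π x = 1 := by rw [← map_mul, hx, map_one]
  obtain ⟨k, hk⟩ := support_four (C.π_mem x) hp
  have := Finset.card_le_univ (C.π x).support
  rw [Fintype.card_fin] at this
  have hk4 : k < 4 := by omega
  have hsq := C.sq_support k hp hk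
  rw [hx] at hsq
  interval_cases k
  · rw [mul_zero, Finset.card_eq_zero, support_eq_empty_iff] at hk
    rcases (C.ker x).1 hk with e | e
    exacts [absurd e h1, absurd e h2]
  · exact absurd (by simpa using hsq.symm) C.th_ne
  · exact hk
  · exact absurd (by simpa [pow_succ, C.th_sq] using hsq.symm) C.th_ne

/-- Up to degree 15 the non-central involutions form one class. -/
theorem isConj_of_invol (hn : n ≤ 15) {x y : H} (hx : x * x = 1) (hx1 : x ≠ 1) (hx2 : x ≠ C.th)
    (hy : y * y = 1) (hy1 : y ≠ 1) (hy2 : y ≠ C.th) : IsConj x y :=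
  C.isConj_invol (k := 2) two_pos (by decide) (by rw [← map_mul, hx, map_one])
    (by rw [← map_mul, hy, map_one]) (C.invol_eight hn hx hx1 hx2) (C.invol_eight hn hy hy1 hy2)

end Cov

end CfsgLib.InvChar.AltLift
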