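import Cfsg.Prelude.Def_SporadicB
import Cfsg.Agent.Lib.Recog.QSThree.AltPerm

/-!
# Lifts in a non-split double cover of an alternating group

A double transposition lifts to elements of order four; so a product of `k` disjoint double
transpositions lifts to elements squaring to the `k`-th power of the central involution, and this
decides which lifts of commuting involutions commute.
-/

set_option autoImplicit false

namespace CfsgLib.InvChar.AltLift

open Equiv Equiv.Perm CfsgLib.Clifford.AltSchur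

variable {n : ℕ}

/-- Products of two disjoint transpositions. -/
def DT (p : Perm (Fin n)) : Prop :=
  ∃ a b c d : Fin n, [a, b, c, d].Nodup ∧ p = swap a b * swap c d

/-- Conjugate even permutations are conjugate in the alternating group when an odd permutation
centralises one of them. -/
theorem exists_even_conj {p q τ : Perm (Fin n)} (hτ : Perm.sign τ = -1) (hq : τ * q = q * τ)
    (h : p.cycleType = q.cycleType) : ∃ g ∈ alternatingGroup (Fin n), g * p * g⁻¹ = q := by
  obtain ⟨g, hg⟩ := isConj_iff.1 (Perm.isConj_iff_cycleType_eq.2 h)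
  rcases Int.units_eq_one_or (Perm.sign g) with hs | hs
  · exact ⟨g, Perm.mem_alternatingGroup.2 hs, hg⟩
  · refine ⟨τ * g, Perm.mem_alternatingGroup.2 (by rw [map_mul, hτ, hs]; rfl), ?_⟩
    rw [show τ * g * p * (τ * g)⁻¹ = τ * (g * p * g⁻¹) * τ⁻¹ by group, hg, hq, mul_inv_cancel_right]

theorem DT.cycleType {p : Perm (Fin n)} (h : DT p) : p.cycleType = {2, 2} := by
  obtain ⟨a, b, c, d, hn, rfl⟩ := h
  exact cycleType_swap_mul_swap_of_nodup hn

theorem DT.mem {p : Perm (Fin n)} (h : DT p) : p ∈ alternatingGroup (Fin n) := by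
  obtain ⟨a, b, c, d, hn, rfl⟩ := h
  simp only [List.nodup_cons, List.mem_cons, List.not_mem_nil, or_false, not_or] at hn
  rw [Perm.mem_alternatingGroup, map_mul, sign_swap hn.1.1, sign_swap hn.2.2.1]; rfl

theorem DT.sq {p : Perm (Fin n)} (h : DT p) : p * p = 1 := by
  obtain ⟨a, b, c, d, hn, rfl⟩ := h
  have hc := (disjoint_swap_swap hn).commute
  rw [mul_assoc, ← mul_assoc (swap c d), ← hc.eq, mul_assoc, swap_mul_self, mul_one, swap_mul_self]

/-- Any two double transpositions are conjugate by an even permutation. -/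
theorem DT.conj {p q : Perm (Fin n)} (hp : DT p) (hq : DT q) :
    ∃ g ∈ alternatingGroup (Fin n), g * p * g⁻¹ = q := by
  obtain ⟨a, b, c, d, hn, rfl⟩ := hq
  have hn' := hn
  simp only [List.nodup_cons, List.mem_cons, List.not_mem_nil, or_false, not_or] at hn'
  refine exists_even_conj (sign_swap hn'.1.1) ?_ (hp.cycleType.trans (cycleType_swap_mul_swap_of_nodup hn).symm)
  rw [mul_assoc, ← (disjoint_swap_swap hn).commute.eq]

/-- Two Carmichael generators multiply to a double transposition. -/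
theorem dt_c3_mul {a b i j : Fin n} (h : [a, i, b, j].Nodup) :
    c3 a b i * c3 a b j = swap a i * swap b j := by
  simp only [List.nodup_cons, List.mem_cons, List.not_mem_nil, or_false, not_or] at h
  obtain ⟨⟨hai, hab, haj⟩, ⟨hib, hij⟩, hbj, -⟩ := h
  refine Equiv.ext fun w => ?_
  simp only [c3, Perm.mul_apply]
  rcases eq_or_ne w a with rfl | h1
  · simp [swap_apply_of_ne_of_ne, *, Ne.symm]
  rcases eq_or_ne w b with rfl | h2
  · simp [swap_apply_of_ne_of_ne, *, Ne.symm]
  rcases eq_or_ne w i with rfl | h3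
  · simp [swap_apply_of_ne_of_ne, *, Ne.symm]
  rcases eq_or_ne w j with rfl | h4
  · simp [swap_apply_of_ne_of_ne, *, Ne.symm]
  simp [swap_apply_of_ne_of_ne, *, Ne.symm]

/-- A double cover of an alternating group with a marked central involution. -/
structure Cov (n : ℕ) (H : Type*) [Group H] where
  π : H →* Perm (Fin n)
  range : π.range = alternatingGroup (Fin n)
  th : H
  th_ne : th ≠ 1
  th_sq : th * th = 1
  th_comm : ∀ h, h * th = th * h
  ker : ∀ h, π h = 1 ↔ h = 1 ∨ h = th
  nonsplit : ∀ σ : alternatingGroup (Fin n) →* H, ∃ g : alternatingGroup (Fin n), π (σ g) ≠ g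

theorem exists_cov {H : Type*} [Group H] (hcov : Cfsg.IsNonsplitDoubleCover H (alternatingGroup (Fin n)))
    {th : H} (hth : th ∈ Subgroup.center H) (hne : th ≠ 1) :
    ∃ C : Cov n H, C.th = th ∧ ∀ h, h ∈ Subgroup.center H ↔ C.π h = 1 := by
  obtain ⟨hc, ⟨q⟩, hs⟩ := hcov
  let π₀ : H →* alternatingGroup (Fin n) := q.toMonoidHom.comp (QuotientGroup.mk' (Subgroup.center H))
  let π : H →* Perm (Fin n) := (alternatingGroup (Fin n)).subtype.comp π₀
  have hπs : Function.Surjective π₀ := q.surjective.comp (QuotientGroup.mk'_surjective _)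
  have hk : ∀ h, π h = 1 ↔ h ∈ Subgroup.center H := fun h => by
    show ((π₀ h : alternatingGroup (Fin n)) : Perm (Fin n)) = 1 ↔ _
    rw [OneMemClass.coe_eq_one]
    show q (QuotientGroup.mk' _ h) = 1 ↔ _
    rw [q.map_eq_one_iff]
    exact QuotientGroup.eq_one_iff _
  have hcases : ∀ h ∈ Subgroup.center H, h = 1 ∨ h = th := fun h hh => by
    rcases eq_or_ne h 1 with e | e
    · exact Or.inl e
    · obtain ⟨u, -, huniq⟩ := (Nat.card_eq_two_iff' (1 : Subgroup.center H)).1 hc
      have e1 : (⟨h, hh⟩ : Subgroup.center H) = u := huniq _ fun e' => e (congrArg Subtype.val e')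
      have e2 : (⟨th, hth⟩ : Subgroup.center H) = u := huniq _ fun e' => hne (congrArg Subtype.val e')
      exact Or.inr (congrArg Subtype.val (e1.trans e2.symm))
  have hker : ∀ h, π h = 1 ↔ h = 1 ∨ h = th := fun h => by
    rw [hk]
    refine ⟨hcases h, ?_⟩
    rintro (rfl | rfl)
    exacts [one_mem _, hth]
  refine ⟨⟨π, ?_, th, hne, ?_, fun h => Subgroup.mem_center_iff.1 hth h, hker, fun σ => ?_⟩, rfl,
    fun h => (hk h).symm⟩
  · ext p
    refine ⟨?_, fun hp => ?_⟩
    · rintro ⟨h, rfl⟩; exact (π₀ h).2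
    · obtain ⟨h, e⟩ := hπs ⟨p, hp⟩
      exact ⟨h, congrArg Subtype.val e⟩
  · rcases hcases (th * th) (mul_mem hth hth) with e | e
    · exact e
    · exact absurd (mul_left_cancel (e.trans (mul_one th).symm)) hne
  · by_contra hcon
    simp only [not_exists, not_not] at hcon
    refine hs σ.range (Subgroup.isComplement'_of_disjoint_and_mul_eq_univ ?_
      (Set.eq_univ_of_forall fun u => ?_))
    · rw [disjoint_iff, eq_bot_iff]
      rintro h ⟨hh, g, rfl⟩
      have : g = 1 := Subtype.ext ((hcon g).symm.trans ((hk _).2 hh))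
      rw [this, map_one]; exact one_mem _
    · refine ⟨u * (σ (π₀ u))⁻¹, ?_, σ (π₀ u), ⟨_, rfl⟩, inv_mul_cancel_right u _⟩
      refine (hk _).1 ?_
      rw [map_mul, map_inv, hcon, mul_inv_eq_one]
      rfl

namespace Cov

variable {H : Type*} [Group H] (C : Cov n H)

theorem π_th : C.π C.th = 1 := (C.ker _).2 (Or.inr rfl)

theorem π_mem (h : H) : C.π h ∈ alternatingGroup (Fin n) := C.range ▸ ⟨h, rfl⟩

theorem exists_lift {p : Perm (Fin n)} (hp : p ∈ alternatingGroup (Fin n)) : ∃ h, C.π h = p := by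
  rw [← C.range] at hp; exact hp

theorem π_mul_th (h : H) : C.π (h * C.th) = C.π h := by rw [map_mul, C.π_th, mul_one]

theorem two_lifts {h k : H} (e : C.π h = C.π k) : k = h ∨ k = h * C.th := by
  rcases (C.ker (h⁻¹ * k)).1 (by rw [map_mul, map_inv, e, inv_mul_cancel]) with h1 | h1
  · exact Or.inl (inv_mul_eq_one.1 h1).symm
  · exact Or.inr (inv_mul_eq_iff_eq_mul.1 h1)

theorem sq_mul_th (h : H) : h * C.th * (h * C.th) = h * h := by
  rw [mul_assoc, ← mul_assoc C.th, ← C.th_comm, mul_assoc h C.th, C.th_sq, mul_one]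

theorem sq_eq_of_π {h k : H} (e : C.π h = C.π k) : k * k = h * h := by
  rcases C.two_lifts e with rfl | rfl
  exacts [rfl, C.sq_mul_th h]

theorem th_pow_odd {m : ℕ} (hm : Odd m) : C.th ^ m = C.th := by
  obtain ⟨r, rfl⟩ := hm
  rw [pow_succ, pow_mul, pow_two, C.th_sq, one_pow, one_mul]

/-- Lifts of odd order are unique. -/
theorem odd_unique {h k : H} {m : ℕ} (hm : Odd m) (hh : h ^ m = 1) (hk : k ^ m = 1)
    (e : C.π h = C.π k) : h = k := by
  rcases C.two_lifts e with rfl | rfl
  · rfl
  · rw [Commute.mul_pow (C.th_comm h), hh, one_mul, C.th_pow_odd hm] at hk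
    exact absurd hk C.th_ne

theorem exists_odd_lift {p : Perm (Fin n)} (hp : p ∈ alternatingGroup (Fin n)) {m : ℕ} (hm : Odd m)
    (hpm : p ^ m = 1) : ∃ h, C.π h = p ∧ h ^ m = 1 := by
  obtain ⟨h, rfl⟩ := C.exists_lift hp
  rcases (C.ker (h ^ m)).1 (by rw [map_pow, hpm]) with e | e
  · exact ⟨h, rfl, e⟩
  · exact ⟨h * C.th, C.π_mul_th h, by
      rw [Commute.mul_pow (C.th_comm h), e, C.th_pow_odd hm, C.th_sq]⟩

/-- An element of odd order commutes with every element whose image commutes with its image. -/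
theorem comm_odd {h k : H} {m : ℕ} (hm : Odd m) (hh : h ^ m = 1)
    (e : C.π k * C.π h = C.π h * C.π k) : k * h = h * k := by
  have := C.odd_unique hm (h := k * h * k⁻¹) (by rw [conj_pow, hh, mul_one, mul_inv_cancel]) hh
    (by rw [map_mul, map_mul, map_inv, e, mul_inv_cancel_right])
  rwa [mul_inv_eq_iff_eq_mul] at this

theorem dichot {h k : H} (e : C.π k * C.π h = C.π h * C.π k) :
    k * h = h * k ∨ k * h = h * k * C.th :=
  C.two_lifts (by rw [map_mul, map_mul, e])

variable [Finite H]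

/-- Double transpositions lift to elements of order four. -/
theorem sq_DT {h : H} (hd : DT (C.π h)) : h * h = C.th := by
  refine ((C.ker (h * h)).1 (by rw [map_mul, hd.sq])).resolve_left fun h1 => ?_
  have hall : ∀ k : H, DT (C.π k) → k * k = 1 := fun k hk => by
    obtain ⟨g, hg, e⟩ := hd.conj hk
    obtain ⟨y, rfl⟩ := C.exists_lift hg
    rw [C.sq_eq_of_π (h := y * h * y⁻¹) (by rw [map_mul, map_mul, map_inv, e]),
      show y * h * y⁻¹ * (y * h * y⁻¹) = y * (h * h) * y⁻¹ by group, h1, mul_one, mul_inv_cancel]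
  obtain ⟨a₀, b₀, c₀, d₀, hn, -⟩ := hd
  obtain ⟨m, rfl⟩ : ∃ m, n = m + 2 := ⟨n - 2, by
    have := hn.length_le_card
    simp only [List.length_cons, List.length_nil, Fintype.card_fin] at this
    omega⟩
  let A : Fin (m + 2) := Fin.natAdd m 0
  let B : Fin (m + 2) := Fin.natAdd m 1
  have hAB : A ≠ B := by simp [A, B, Fin.ext_iff]
  have hA : ∀ i : Fin m, A ≠ Fin.castAdd 2 i := fun i e => by
    have := congrArg Fin.val e; simp [A] at this; omega
  have hB : ∀ i : Fin m, B ≠ Fin.castAdd 2 i := fun i e => by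
    have := congrArg Fin.val e; simp [B] at this; omega
  let t : Fin m → alternatingGroup (Fin (m + 2)) := fun i =>
    ⟨c3 A B (Fin.castAdd 2 i), c3_mem hAB (hB i)⟩
  have ht3 : ∀ i, t i ^ 3 = 1 := fun i => Subtype.ext (c3_cube hAB (hA i) (hB i))
  have hdt : ∀ i j, i ≠ j → DT ((t i : Perm (Fin (m + 2))) * (t j : Perm (Fin (m + 2)))) := fun i j hij => by
    have hnd : [A, Fin.castAdd 2 i, B, Fin.castAdd 2 j].Nodup := by
      simp [hA, hB, hAB, (hB i).symm, hij]
    exact ⟨_, _, _, _, hnd, dt_c3_mul hnd⟩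
  have hgen : Subgroup.closure (Set.range t) = ⊤ := by
    refine CfsgLib.Recog.QSThree.Alt.closure_c3_eq_top hAB t fun i h1 h2 => ?_
    refine ⟨⟨i, ?_⟩, rfl⟩
    have a1 := Fin.val_ne_of_ne h1
    have a2 := Fin.val_ne_of_ne h2
    simp [A, B] at a1 a2
    omega
  choose x hxπ hx3 using fun i => C.exists_odd_lift (t i).2 (m := 3) (by decide)
    (by rw [← SubmonoidClass.coe_pow, ht3, OneMemClass.coe_one])
  obtain ⟨σ, hσ⟩ := CfsgLib.Recog.QSThree.Alt.exists_hom_carmichael m t ht3
    (fun i j hij => Subtype.ext (hdt i j hij).sq) hgen x hx3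
    fun i j hij => hall _ (by rw [map_mul, hxπ, hxπ]; exact hdt i j hij)
  obtain ⟨g, hg⟩ := C.nonsplit σ
  have : C.π.comp σ = (alternatingGroup (Fin (m + 2))).subtype :=
    MonoidHom.eq_of_eqOn_dense hgen (by
      rintro _ ⟨i, rfl⟩
      exact (congrArg C.π (hσ i)).trans (hxπ i))
  exact hg (DFunLike.congr_fun this g)

end Cov

end CfsgLib.InvChar.AltLift
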