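import Cfsg.Agent.Lib.InvChar.AltLift.Core

/-!
# Commutation and squares of lifts
-/

set_option autoImplicit false

namespace CfsgLib.InvChar.AltLift

open Equiv Equiv.Perm

variable {n : ℕ}

theorem support_mul_pairs {p : Perm (Fin n)} (hp : p * p = 1) {a c : Fin n} (ha : a ∈ p.support)
    (hc : c ∈ p.support) (hca : c ≠ a) (hcb : c ≠ p a) :
    [a, p a, c, p c].Nodup ∧ Perm.Disjoint (swap a (p a) * swap c (p c)) (swap a (p a) * swap c (p c) * p) ∧
      (swap a (p a) * swap c (p c) * p).support.card + 4 = p.support.card := by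
  rw [mem_support] at ha hc
  have hinv : ∀ w, p (p w) = w := fun w => by rw [← Perm.mul_apply, hp, Perm.one_apply]
  have hn : [a, p a, c, p c].Nodup := by
    simp only [List.nodup_cons, List.mem_cons, List.not_mem_nil, or_false, not_or, List.nodup_nil,
      and_true, not_false_eq_true]
    refine ⟨⟨fun e => ha e.symm, fun e => hca e.symm, fun e => hcb ?_⟩,
      ⟨fun e => hcb e.symm, fun e => hca (p.injective e).symm⟩, fun e => hc e.symm⟩
    rw [e, hinv]
  have hq : ∀ w, (swap a (p a) * swap c (p c) * p) w =
      if w = a ∨ w = p a ∨ w = c ∨ w = p c then w else p w := by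
    intro w
    simp only [List.nodup_cons, List.mem_cons, List.not_mem_nil, or_false, not_or] at hn
    obtain ⟨⟨n1, n2, n3⟩, ⟨n4, n5⟩, n6, -⟩ := hn
    simp only [Perm.mul_apply]
    split
    next h =>
      rcases h with rfl | rfl | rfl | rfl <;> simp [swap_apply_of_ne_of_ne, hinv, *, Ne.symm]
    next h =>
      simp only [not_or] at h
      obtain ⟨h1, h2, h3, h4⟩ := h
      have g1 : p w ≠ a := fun e => h2 (by rw [← e, hinv])
      have g2 : p w ≠ p a := fun e => h1 (p.injective e)
      have g3 : p w ≠ c := fun e => h4 (by rw [← e, hinv])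
      have g4 : p w ≠ p c := fun e => h3 (p.injective e)
      rw [swap_apply_of_ne_of_ne g3 g4, swap_apply_of_ne_of_ne g1 g2]
  refine ⟨hn, fun w => ?_, ?_⟩
  · by_cases h : w = a ∨ w = p a ∨ w = c ∨ w = p c
    · exact Or.inr (by rw [hq, if_pos h])
    · simp only [not_or] at h
      exact Or.inl (by rw [Perm.mul_apply, swap_apply_of_ne_of_ne h.2.2.1 h.2.2.2, swap_apply_of_ne_of_ne h.1 h.2.1])
  · have e : p.support = (swap a (p a) * swap c (p c) * p).support ∪ {a, p a, c, p c} := by
      ext w
      simp only [mem_support, hq, Finset.mem_union, Finset.mem_insert, Finset.mem_singleton]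
      by_cases h : w = a ∨ w = p a ∨ w = c ∨ w = p c
      · rw [if_pos h]
        refine ⟨fun _ => Or.inr h, fun _ => ?_⟩
        rcases h with rfl | rfl | rfl | rfl <;> simp [hinv, ha, hc, Ne.symm]
      · rw [if_neg h]
        exact ⟨Or.inl, fun h' => h'.resolve_right h⟩
    conv_rhs => rw [e]
    rw [Finset.card_union_of_disjoint]
    · congr 1
      rw [Finset.card_insert_of_notMem, Finset.card_insert_of_notMem, Finset.card_pair] <;>
        simp_all [List.nodup_cons]
    · rw [Finset.disjoint_left]
      intro w hw hw'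
      simp only [Finset.mem_insert, Finset.mem_singleton] at hw'
      rw [mem_support, hq, if_pos hw'] at hw
      exact hw rfl

namespace Cov

variable {H : Type*} [Group H] (C : Cov n H)

/-- Lifts of permutations with disjoint supports commute. -/
theorem commute_disjoint {x y : H} (hd : Perm.Disjoint (C.π x) (C.π y)) : x * y = y * x := by
  classical
  set q := C.π x with hq
  set p := C.π y with hp
  have hsup : ∀ w, p w ≠ w → q w = w := fun w hw => (hd w).resolve_right hw
  have hinv : ∀ w, q (p w) = p w ↔ q w = w := fun w => by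
    by_cases hw : p w = w
    · rw [hw]
    · exact ⟨fun _ => hsup w hw, fun _ => hsup _ fun e => hw (p.injective e)⟩
  let M : Subgroup (Perm (Fin n)) := (Subgroup.centralizer ({x} : Set H)).map C.π
  have hc3 : ∀ c : Perm {w // q w = w}, c.IsThreeCycle → Perm.ofSubtype c ∈ M := by
    intro c hc
    have h3 : (Perm.ofSubtype c).IsThreeCycle := by
      rw [Perm.IsThreeCycle, cycleType_ofSubtype]; exact hc
    obtain ⟨k, hk, hk3⟩ := C.exists_odd_lift h3.mem_alternatingGroup (m := 3) (by decide)
      (h3.orderOf ▸ pow_orderOf_eq_one _)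
    refine ⟨k, Subgroup.mem_centralizer_singleton_iff.2 ?_, hk⟩
    refine (C.comm_odd (by decide) hk3 ?_).symm
    rw [hk, ← hq]
    refine (Perm.Disjoint.commute fun w => ?_).eq
    by_cases hw : q w = w
    · exact Or.inl hw
    · exact Or.inr (Perm.ofSubtype_apply_of_not_mem c hw)
  have hps : p.subtypePerm hinv ∈ alternatingGroup {w // q w = w} := by
    rw [Perm.mem_alternatingGroup, sign_subtypePerm p hinv hsup]
    exact Perm.mem_alternatingGroup.1 (C.π_mem y)
  have hle : alternatingGroup {w // q w = w} ≤ M.comap Perm.ofSubtype := by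
    rw [← closure_three_cycles_eq_alternating, Subgroup.closure_le]
    exact hc3
  obtain ⟨y', hy', e⟩ : p ∈ M := by
    have := hle hps
    rwa [Subgroup.mem_comap, Perm.ofSubtype_subtypePerm _ hsup] at this
  have hy'' : x * y' = y' * x := (Subgroup.mem_centralizer_singleton_iff.1 hy').symm
  rcases C.two_lifts e with rfl | rfl
  · exact hy''
  · rw [← mul_assoc, hy'', mul_assoc, C.th_comm, ← mul_assoc]

theorem sq_mul_comm {x y : H} (h : x * y = y * x) : x * y * (x * y) = x * x * (y * y) :=
  (Commute.mul_mul_mul_comm (show Commute y x from h.symm) x y)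

/-- The commutation rule for lifts of commuting involutions. -/
theorem mul_eq {x y : H} (hx : C.π x * C.π x = 1) (hy : C.π y * C.π y = 1)
    (hxy : C.π x * C.π y = C.π y * C.π x) :
    x * y = y * x * (x * y * (x * y) * (x * x) * (y * y)) := by
  have hc : ∀ a : H, C.π a = 1 → ∀ b, a * b = b * a := fun a ha b => by
    rcases (C.ker a).1 ha with rfl | rfl
    · rw [one_mul, mul_one]
    · exact (C.th_comm b).symm
  have hs : ∀ a : H, C.π a = 1 → a * a = 1 := fun a ha => by
    rcases (C.ker a).1 ha with rfl | rfl
    · exact one_mul 1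
    · exact C.th_sq
  have hxx : C.π (x * x) = 1 := by rw [map_mul, hx]
  have hyy : C.π (y * y) = 1 := by rw [map_mul, hy]
  have e : y * x * (x * y * (x * y)) = x * x * (y * y) * (x * y) := by
    calc y * x * (x * y * (x * y)) = y * (x * x) * y * (x * y) := by simp only [mul_assoc]
      _ = _ := by rw [← hc _ hxx y, mul_assoc (x * x) y y]
  have hab : C.π (x * x * (y * y)) = 1 := by rw [map_mul, hxx, hyy, one_mul]
  rw [mul_assoc (x * y * (x * y)), ← mul_assoc (y * x), e, hc _ hab, mul_assoc, hs _ hab, mul_one]

variable [Finite H]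

/-- The square of a lift of an involution moving `4 k` points. -/
theorem sq_support : ∀ (k : ℕ) {x : H}, C.π x * C.π x = 1 → (C.π x).support.card = 4 * k →
    x * x = C.th ^ k := by
  intro k
  induction k with
  | zero =>
    intro x _ hs
    rw [mul_zero, Finset.card_eq_zero, support_eq_empty_iff] at hs
    rcases (C.ker x).1 hs with rfl | rfl
    · simp
    · rw [pow_zero]; exact C.th_sq
  | succ k ih =>
    intro x hp hs
    obtain ⟨a, ha⟩ := Finset.card_pos.1 (by omega : 0 < (C.π x).support.card)
    obtain ⟨c, hc⟩ := Finset.card_pos.1 (by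
      have := Finset.le_card_sdiff {a, C.π x a} (C.π x).support
      have := Finset.card_le_two (a := a) (b := C.π x a)
      omega : 0 < ((C.π x).support \ {a, C.π x a}).card)
    simp only [Finset.mem_sdiff, Finset.mem_insert, Finset.mem_singleton, not_or] at hc
    obtain ⟨hn, hdis, hcard⟩ := support_mul_pairs hp ha hc.1 hc.2.1 hc.2.2
    have hD : DT (swap a (C.π x a) * swap c (C.π x c)) := ⟨_, _, _, _, hn, rfl⟩
    obtain ⟨x0, hx0⟩ := C.exists_lift hD.mem
    have hy : C.π (x0⁻¹ * x) = swap a (C.π x a) * swap c (C.π x c) * C.π x := by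
      rw [map_mul, map_inv, hx0, inv_eq_of_mul_eq_one_right hD.sq]
    have hy2 : C.π (x0⁻¹ * x) * C.π (x0⁻¹ * x) = 1 := by
      have hcm := (hdis.commute).eq
      rw [hy]
      calc _ = (swap a (C.π x a) * swap c (C.π x c) * C.π x * (swap a (C.π x a) * swap c (C.π x c))) * C.π x := by
            simp only [mul_assoc]
        _ = _ := by rw [← hcm, ← mul_assoc (swap a (C.π x a) * swap c (C.π x c)), hD.sq, one_mul, hp]
    have hcomm := C.commute_disjoint (x := x0) (y := x0⁻¹ * x) (by rw [hx0, hy]; exact hdis)
    have := sq_mul_comm hcomm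
    rw [mul_inv_cancel_left] at this
    rw [this, C.sq_DT (by rw [hx0]; exact hD), ih hy2 (by rw [hy]; omega), pow_succ']

end Cov

end CfsgLib.InvChar.AltLift
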